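import Cfsg.Agent.Lib.Fusion.LyTwo.Data
import Mathlib.GroupTheory.SpecificGroups.Alternating
import Mathlib.GroupTheory.Perm.Cycle.Type
import Mathlib.Data.List.GetD

/-!
# A self-normalising Sylow 2-subgroup of the alternating group of degree 11 (owner: helper21)

It is generated by seven involutions moving eight points, its centre has order 2, and it is its own normaliser.
-/

set_option autoImplicit false
set_option maxRecDepth 20000

namespace CfsgLib.Fusion.LyTwo

open Equiv

/-- The alternating group of degree 11. -/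
abbrev A11 : Type := alternatingGroup (Fin 11)

/-- The images as a list. -/
def co (σ : Perm (Fin 11)) : List ℕ := List.ofFn fun i => (σ i).val

/-- The composite of two lists of images. -/
def mulL (a b : List ℕ) : List ℕ := b.map fun i => a.getD i 0

theorem co_injective : Function.Injective co := fun σ τ h => by
  ext i
  have := congrFun (List.ofFn_injective h) i
  exact this

theorem getD_co (σ : Perm (Fin 11)) (i : Fin 11) : (co σ).getD i.val 0 = (σ i).val := by
  rw [co, List.getD_eq_getElem _ _ (by rw [List.length_ofFn]; exact i.isLt), List.getElem_ofFn]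

theorem co_mul (σ τ : Perm (Fin 11)) : co (σ * τ) = mulL (co σ) (co τ) := by
  refine List.ext_getElem (by simp [co, mulL]) fun i h1 h2 => ?_
  have hi : i < 11 := by simpa [co] using h1
  have e : ((mulL (co σ) (co τ))[i] : ℕ) = (co σ).getD (τ ⟨i, hi⟩).val 0 := by
    simp only [mulL, List.getElem_map, co, List.getElem_ofFn]
  refine Eq.trans ?_ e.symm
  rw [getD_co]
  simp only [co, List.getElem_ofFn, Perm.mul_apply]

/-- The inverse of a list of images. -/
def invL (a : List ℕ) : List ℕ := (List.range 11).map fun i => a.idxOf i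

theorem co_inv (σ : Perm (Fin 11)) : co σ⁻¹ = invL (co σ) := by
  refine List.ext_getElem (by simp [co, invL]) fun i h1 h2 => ?_
  have hi : i < 11 := by simpa [co] using h1
  have hnd : (co σ).Nodup := List.nodup_ofFn.2 fun a b h => σ.injective (Fin.val_injective h)
  have hl : (σ⁻¹ ⟨i, hi⟩).val < (co σ).length := by rw [co, List.length_ofFn]; exact (σ⁻¹ ⟨i, hi⟩).isLt
  have e : (co σ)[(σ⁻¹ ⟨i, hi⟩).val]'hl = i := by simp only [co, List.getElem_ofFn]; simp
  have h := hnd.idxOf_getElem _ hl
  rw [e] at h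
  simp only [co, invL, List.getElem_ofFn, List.getElem_map, List.getElem_range]
  exact h.symm

theorem co_one : co 1 = List.range 11 := by decide

/-- An involution moving four points. -/
def dPerm : Perm (Fin 11) := swap 0 1 * swap 2 3

/-- An involution moving eight points. -/
def pPerm : Perm (Fin 11) := swap 0 1 * swap 2 3 * swap 4 5 * swap 6 7

/-- The generators of the Sylow subgroup. -/
def wGen : Fin 7 → Perm (Fin 11)
  | 0 => pPerm
  | 1 => swap 2 3 * swap 4 5 * swap 6 7 * swap 8 9
  | 2 => swap 0 1 * swap 4 5 * swap 6 7 * swap 8 9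
  | 3 => swap 0 1 * swap 2 3 * swap 6 7 * swap 8 9
  | 4 => swap 0 2 * swap 1 3 * swap 4 6 * swap 5 7
  | 5 => swap 0 4 * swap 1 5 * swap 2 6 * swap 3 7
  | 6 => swap 0 2 * swap 1 3 * swap 4 5 * swap 8 9

theorem wGen_sign : ∀ k, Perm.sign (wGen k) = 1 := by decide +kernel

theorem dPerm_sign : Perm.sign dPerm = 1 := by decide +kernel

/-- The Sylow subgroup. -/
def WW : Subgroup A11 := Subgroup.closure (Set.range fun k => (⟨wGen k, wGen_sign k⟩ : A11))

theorem wGen_mem (k : Fin 7) : (⟨wGen k, wGen_sign k⟩ : A11) ∈ WW := Subgroup.subset_closure ⟨k, rfl⟩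

theorem wList_closed : ∀ k : Fin 7, (wList.all fun w => wList.contains (mulL (co (wGen k)) w)) = true := by
  decide +kernel

theorem wList_start : (wList.getD 0 [] == List.range 11) = true := by decide +kernel

theorem wList_nodup : wList.length = 128 ∧ wList.Nodup := by decide +kernel

theorem wList_parents : ∀ j : Fin 127, (wPar.getD (j.val + 1) (0, 0)).1 ≤ j.val ∧
    (wPar.getD (j.val + 1) (0, 0)).2 < 7 ∧
    wList.getD (j.val + 1) [] = mulL (co (wGen ⟨(wPar.getD (j.val + 1) (0, 0)).2 % 7, Nat.mod_lt _ (by norm_num)⟩))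
      (wList.getD (wPar.getD (j.val + 1) (0, 0)).1 []) := by decide +kernel

theorem mem_wList {w : A11} (hw : w ∈ WW) : co w.1 ∈ wList := by
  have hw' : w ∈ Submonoid.closure (Set.range fun k => (⟨wGen k, wGen_sign k⟩ : A11)) := by
    rw [← Subgroup.closure_toSubmonoid_of_finite]; exact hw
  suffices h : ∀ v ∈ wList, mulL (co w.1) v ∈ wList by
    have h0 : co 1 ∈ wList := by
      rw [co_one, ← beq_iff_eq.1 wList_start, List.getD_eq_getElem _ _ (by rw [wList_nodup.1]; norm_num)]
      exact List.getElem_mem _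
    have := h _ h0
    rwa [← co_mul, mul_one] at this
  clear hw
  induction hw' using Submonoid.closure_induction with
  | mem x hx =>
    obtain ⟨k, rfl⟩ := hx
    exact fun v hv => List.contains_iff_mem.1 (List.all_eq_true.1 (wList_closed k) v hv)
  | one =>
    intro v hv
    have hlen : ∀ v ∈ wList, mulL (List.range 11) v = v := by decide +kernel
    rwa [show ((1 : A11) : Perm (Fin 11)) = 1 from rfl, co_one, hlen v hv]
  | mul x y _ _ hx hy =>
    intro v hv
    have e : mulL (co (x * y).1) v = mulL (co x.1) (mulL (co y.1) v) := by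
      obtain ⟨hlen, hsmall⟩ : v.length = 11 ∧ ∀ i ∈ v, i < 11 := by
        have h : ∀ v ∈ wList, v.length = 11 ∧ ∀ i ∈ v, i < 11 := by decide +kernel
        exact h v hv
      rw [show (x * y).1 = x.1 * y.1 from rfl, co_mul]
      refine List.ext_getElem (by simp [mulL]) fun i h1 h2 => ?_
      have hi : i < v.length := by simpa [mulL] using h1
      have hv' := hsmall _ (List.getElem_mem hi)
      simp only [mulL, List.getElem_map]
      rw [List.getD_eq_getElem _ _ (by simpa [co] using hv'), List.getElem_map,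
        List.getD_eq_getElem (co y.1) 0 (by simpa [co] using hv')]
    rw [e]
    exact hx _ (hy v hv)

theorem of_mem_wList : ∀ j < 128, ∃ w ∈ WW, co w.1 = wList.getD j [] := by
  intro j
  induction j using Nat.strong_induction_on with
  | _ j ih =>
    intro hj
    rcases Nat.eq_zero_or_pos j with rfl | hp
    · exact ⟨1, one_mem _, by rw [beq_iff_eq.1 wList_start]; exact co_one⟩
    · obtain ⟨i, rfl⟩ : ∃ i, j = i + 1 := ⟨j - 1, by omega⟩
      obtain ⟨h1, h2, h3⟩ := wList_parents ⟨i, by omega⟩
      simp only at h1 h2 h3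
      obtain ⟨w, hw, e⟩ := ih (wPar.getD (i + 1) (0, 0)).1 (by omega) (by omega)
      refine ⟨⟨wGen ⟨(wPar.getD (i + 1) (0, 0)).2 % 7, Nat.mod_lt _ (by norm_num)⟩, wGen_sign _⟩ * w,
        mul_mem (wGen_mem _) hw, ?_⟩
      rw [h3, ← e, ← co_mul]
      rfl

theorem mem_WW_iff {w : A11} : w ∈ WW ↔ co w.1 ∈ wList := by
  refine ⟨mem_wList, fun h => ?_⟩
  obtain ⟨j, hj, e⟩ := List.getElem_of_mem h
  rw [wList_nodup.1] at hj
  obtain ⟨v, hv, e'⟩ := of_mem_wList j hj
  rw [List.getD_eq_getElem _ _ (by rw [wList_nodup.1]; exact hj), e] at e'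
  rwa [← Subtype.ext (co_injective e')]

theorem card_WW : Nat.card WW = 128 := by
  classical
  let f : WW → {l : List ℕ // l ∈ wList.toFinset} := fun w => ⟨co w.1.1, List.mem_toFinset.2 (mem_wList w.2)⟩
  have hf : Function.Bijective f := by
    refine ⟨fun a b h => Subtype.ext (Subtype.ext (co_injective (congrArg Subtype.val h))), fun ⟨l, hl⟩ => ?_⟩
    obtain ⟨j, hj, e⟩ := List.getElem_of_mem (List.mem_toFinset.1 hl)
    obtain ⟨v, hv, e'⟩ := of_mem_wList j (wList_nodup.1 ▸ hj)
    rw [List.getD_eq_getElem _ _ hj, e] at e'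
    exact ⟨⟨v, hv⟩, Subtype.ext e'⟩
  rw [Nat.card_congr (Equiv.ofBijective f hf), Nat.card_eq_fintype_card, Fintype.card_coe,
    List.card_toFinset, wList_nodup.2.dedup, wList_nodup.1]

/-! ### centre and normaliser -/

theorem central_list : ∀ l ∈ wList, (∀ k : Fin 7, mulL l (co (wGen k)) = mulL (co (wGen k)) l) →
    l = List.range 11 ∨ l = co pPerm := by decide +kernel

theorem central_WW {w : A11} (hw : w ∈ WW) (h : ∀ v ∈ WW, w * v = v * w) : w = 1 ∨ w.1 = pPerm := by
  have h' : ∀ k : Fin 7, mulL (co w.1) (co (wGen k)) = mulL (co (wGen k)) (co w.1) := fun k => by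
    rw [← co_mul, ← co_mul]
    exact congrArg (fun x : A11 => co x.1) (h _ (wGen_mem k))
  rcases central_list _ (mem_wList hw) h' with e | e
  · exact Or.inl (Subtype.ext (co_injective (e.trans co_one.symm)))
  · exact Or.inr (co_injective e)

/-- A list of images from those of the points 2, 4, 6 and 8, commuting with the involution and fixing 0 and 10. -/
def cand (a b c e : ℕ) : List ℕ :=
  [0, 1, a, Nat.xor a 1, b, Nat.xor b 1, c, Nat.xor c 1, e, 17 - e, 10]

theorem cand_list : ∀ a : Fin 8, ∀ b : Fin 8, ∀ c : Fin 8, ∀ e : Fin 2,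
    (let l := cand a.val b.val c.val (8 + e.val)
     mulL (invL l) l != List.range 11 ||
       !((List.range 7).all fun k => wList.contains (mulL (mulL l (co (wGen ⟨k % 7, Nat.mod_lt _ (by norm_num)⟩))) (invL l))) ||
       wList.contains l || wList.contains (mulL l (co (swap 8 9)))) = true := by decide +kernel

theorem transitive_list : ∀ j : Fin 8, ∃ i : Fin 128, (wList.getD i.val []).getD j.val 0 = 0 := by decide +kernel

theorem normalizer_WW {n : A11} (hn : ∀ w ∈ WW, n * w * n⁻¹ ∈ WW) : n ∈ WW := by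
  -- the central involution is fixed
  have hp : ∀ m : A11, (∀ w ∈ WW, m * w * m⁻¹ ∈ WW) → ∀ x : Fin 11, m.1 (pPerm x) = pPerm (m.1 x) := by
    intro m hm x
    let P : A11 := ⟨pPerm, wGen_sign 0⟩
    let f : WW → WW := fun w => ⟨m * w * m⁻¹, hm w w.2⟩
    have hsurj : Function.Surjective f := Finite.injective_iff_surjective.1 fun a b e =>
      Subtype.ext (mul_left_cancel (mul_right_cancel (congrArg Subtype.val e)))
    have hc : ∀ v ∈ WW, m * P * m⁻¹ * v = v * (m * P * m⁻¹) := by
      intro v hv
      obtain ⟨⟨w, hw⟩, e⟩ := hsurj ⟨v, hv⟩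
      have e' : m * w * m⁻¹ = v := congrArg Subtype.val e
      have hPw : P * w = w * P := by
        have h := mem_wList hw
        have hcomm : ∀ l ∈ wList, mulL (co pPerm) l = mulL l (co pPerm) := by decide +kernel
        apply Subtype.ext
        apply co_injective
        show co (pPerm * w.1) = co (w.1 * pPerm)
        rw [co_mul, co_mul, hcomm _ h]
      rw [← e']
      calc m * P * m⁻¹ * (m * w * m⁻¹) = m * (P * w) * m⁻¹ := by group
        _ = _ := by rw [hPw]; group
    rcases central_WW (hm P (wGen_mem 0)) hc with e | e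
    · have : P = 1 := by
        have := congrArg (fun y => m⁻¹ * y * m) e
        simpa [mul_assoc] using this
      exact absurd (congrArg Subtype.val this) (show pPerm ≠ 1 by decide)
    · have e2 : (m * P : A11).1 = pPerm * m.1 := by
        rw [← e]
        show _ = ((m * P * m⁻¹) * m : A11).1
        rw [inv_mul_cancel_right]
      exact congrArg (fun σ : Perm (Fin 11) => σ x) e2
  have hten : ∀ m : A11, (∀ w ∈ WW, m * w * m⁻¹ ∈ WW) → m.1 10 = 10 := by
    intro m hm
    have hfix : ∀ l ∈ wList, l.getD 10 0 = 10 := by decide +kernel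
    have honly : ∀ x : Fin 11, (∀ k : Fin 7, wGen k x = x) → x = 10 := by decide +kernel
    refine honly _ fun k => ?_
    let f : WW → WW := fun w => ⟨m * w * m⁻¹, hm w w.2⟩
    have hsurj : Function.Surjective f := Finite.injective_iff_surjective.1 fun a b e =>
      Subtype.ext (mul_left_cancel (mul_right_cancel (congrArg Subtype.val e)))
    obtain ⟨⟨w, hw⟩, e⟩ := hsurj ⟨_, wGen_mem k⟩
    have e' : m.1 * w.1 * m.1⁻¹ = wGen k := congrArg Subtype.val (congrArg Subtype.val e)
    have h10 : w.1 10 = 10 := Fin.ext (by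
      have := hfix _ (mem_wList hw)
      rw [show (10 : ℕ) = ((10 : Fin 11)).val from rfl, getD_co] at this
      exact this)
    rw [← e']
    simp [h10]
  -- normalise so that 0 is fixed
  have hlow : ∀ x : Fin 11, x.val < 8 ↔ pPerm x ≠ x := by decide
  have hn0 : (n.1 0).val < 8 := by
    rw [hlow, ← hp n hn]
    exact fun h => absurd (n.1.injective h) (by decide)
  obtain ⟨i, hi⟩ := transitive_list ⟨_, hn0⟩
  obtain ⟨w, hw, ew⟩ := of_mem_wList i.val i.isLt
  rw [← ew] at hi
  simp only [getD_co] at hi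
  set m : A11 := w * n with hmdef
  have hm : ∀ v ∈ WW, m * v * m⁻¹ ∈ WW := fun v hv => by
    rw [hmdef, show w * n * v * (w * n)⁻¹ = w * (n * v * n⁻¹) * w⁻¹ by group]
    exact mul_mem (mul_mem hw (hn v hv)) (inv_mem hw)
  have m0 : m.1 0 = 0 := Fin.ext hi
  suffices hmW : m ∈ WW by
    have := mul_mem (inv_mem hw) hmW
    rwa [hmdef, inv_mul_cancel_left] at this
  have mp := hp m hm
  have hval : ∀ x : Fin 11, x.val < 8 → (pPerm x).val = Nat.xor x.val 1 := by decide
  have lowx : ∀ x : Fin 11, x.val < 8 → (m.1 x).val < 8 := fun x hx => by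
    rw [hlow] at hx ⊢
    rw [← mp x]
    exact fun h => hx (m.1.injective h)
  have h8 : (m.1 8).val = 8 ∨ (m.1 8).val = 9 := by
    have h1 : ¬ (m.1 8).val < 8 := by
      rw [hlow, not_not, ← mp]
      rfl
    have h2 : m.1 8 ≠ 10 := fun h => absurd (m.1.injective (h.trans (hten m hm).symm)) (by decide)
    have h3 : (m.1 8).val ≠ 10 := fun h => h2 (Fin.ext h)
    omega
  have h9 : (m.1 9).val = 17 - (m.1 8).val := by
    have h1 : ¬ (m.1 9).val < 8 := by
      rw [hlow, not_not, ← mp]
      rfl
    have h2 : (m.1 9).val ≠ 10 := fun h =>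
      absurd (m.1.injective ((Fin.ext h : m.1 9 = 10).trans (hten m hm).symm)) (by decide)
    have h3 : (m.1 9).val ≠ (m.1 8).val := fun h => absurd (m.1.injective (Fin.ext h)) (by decide)
    omega
  have hodd : ∀ x y : Fin 11, pPerm x = y → x.val < 8 → (m.1 y).val = Nat.xor (m.1 x).val 1 := fun x y e hx => by
    rw [← e, mp, hval _ (lowx x hx)]
  obtain ⟨e, he⟩ : ∃ e : Fin 2, (m.1 8).val = 8 + e.val := by
    rcases h8 with h | h
    · exact ⟨0, h⟩
    · exact ⟨1, h⟩
  have hcand : co m.1 = cand (m.1 2).val (m.1 4).val (m.1 6).val (8 + e.val) := by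
    simp only [co, cand, List.ofFn_succ, List.ofFn_zero, List.cons.injEq, and_true]
    exact ⟨congrArg Fin.val m0, (hodd 0 1 rfl (by decide)).trans (by rw [m0]; rfl), rfl,
      hodd 2 3 rfl (by decide), rfl, hodd 4 5 rfl (by decide), rfl, hodd 6 7 rfl (by decide), he,
      by rw [← he]; exact h9, congrArg Fin.val (hten m hm)⟩
  have hc := cand_list ⟨_, lowx 2 (by decide)⟩ ⟨_, lowx 4 (by decide)⟩ ⟨_, lowx 6 (by decide)⟩ e
  simp only [← hcand] at hc
  have hinv : mulL (invL (co m.1)) (co m.1) = List.range 11 := by rw [← co_inv, ← co_mul, inv_mul_cancel, co_one]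
  have hall : ((List.range 7).all fun k => wList.contains
      (mulL (mulL (co m.1) (co (wGen ⟨k % 7, Nat.mod_lt _ (by norm_num)⟩))) (invL (co m.1)))) = true := by
    rw [List.all_eq_true]
    intro k _
    rw [← co_inv, ← co_mul, ← co_mul, List.contains_iff_mem]
    exact mem_wList (hm _ (wGen_mem _))
  rw [hinv, hall, ← co_mul] at hc
  simp only [bne_self_eq_false, Bool.not_true, Bool.false_or, Bool.or_eq_true, List.contains_iff_mem] at hc
  rcases hc with h | h
  · exact mem_WW_iff.2 h
  · exfalso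
    obtain ⟨j, hj, ej⟩ := List.getElem_of_mem h
    obtain ⟨v, -, ev⟩ := of_mem_wList j (wList_nodup.1 ▸ hj)
    rw [List.getD_eq_getElem _ _ hj, ej] at ev
    have hsign := congrArg Perm.sign (co_injective ev)
    rw [v.2, map_mul, m.2, Perm.sign_swap (by decide)] at hsign
    exact absurd hsign (by decide)

/-! ### involutions -/

theorem types : dPerm.cycleType = Multiset.replicate 2 2 ∧ pPerm.cycleType = Multiset.replicate 4 2 ∧
    ∀ k, (wGen k).cycleType = Multiset.replicate 4 2 := by decide +kernel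

theorem cycleType_involution (σ : A11) (h2 : σ * σ = 1) (h1 : σ ≠ 1) :
    σ.1.cycleType = Multiset.replicate 2 2 ∨ σ.1.cycleType = Multiset.replicate 4 2 := by
  have hord : orderOf σ.1 = 2 := orderOf_eq_prime (by rw [pow_two]; exact congrArg Subtype.val h2)
    fun h => h1 (Subtype.ext h)
  obtain ⟨k, hk⟩ := Perm.cycleType_prime_order (hord.symm ▸ Nat.prime_two)
  rw [hord] at hk
  have hs := σ.2
  rw [Equiv.Perm.mem_alternatingGroup, Perm.sign_of_cycleType, hk, Multiset.sum_replicate, Multiset.card_replicate,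
    smul_eq_mul] at hs
  have hle := σ.1.support.card_le_univ
  rw [← Perm.sum_cycleType, hk, Multiset.sum_replicate, Fintype.card_fin, smul_eq_mul] at hle
  rw [hk]
  have : k ≤ 4 := by omega
  interval_cases k
  · exact absurd hs (by decide)
  · exact Or.inl rfl
  · exact absurd hs (by decide)
  · exact Or.inr rfl
  · exact absurd hs (by decide)

theorem exists_conj {r : Perm (Fin 11)} (hr : r * swap 0 1 = swap 0 1 * r) {σ : A11}
    (h : σ.1.cycleType = r.cycleType) : ∃ c : A11, σ.1 = c.1 * r * c.1⁻¹ := by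
  obtain ⟨c, hc⟩ := isConj_iff.1 ((Perm.isConj_iff_cycleType_eq (σ := r) (τ := σ.1)).2 h.symm)
  rcases Int.units_eq_one_or (Perm.sign c) with hs | hs
  · exact ⟨⟨c, hs⟩, hc.symm⟩
  · refine ⟨⟨c * swap 0 1, ?_⟩, ?_⟩
    · rw [Equiv.Perm.mem_alternatingGroup, map_mul, hs, Perm.sign_swap (by decide)]
      rfl
    · show σ.1 = c * swap 0 1 * r * (c * swap 0 1)⁻¹
      calc σ.1 = c * r * c⁻¹ := hc.symm
        _ = c * (r * swap 0 1) * (swap 0 1)⁻¹ * c⁻¹ := by group
        _ = _ := by rw [hr, mul_inv_rev]; group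

theorem swap_commutes : dPerm * swap 0 1 = swap 0 1 * dPerm ∧ pPerm * swap 0 1 = swap 0 1 * pPerm := by
  decide +kernel

end CfsgLib.Fusion.LyTwo
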