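import Mathlib.Init

/-!
# A Sylow 2-subgroup of the alternating group of degree 11 as lists of images (owner: helper21)
-/

set_option autoImplicit false

namespace CfsgLib.Fusion.LyTwo

/-- the 128 elements -/
def wList : List (List Nat) :=
  [[0,1,2,3,4,5,6,7,8,9,10], [1,0,3,2,5,4,7,6,8,9,10], [0,1,3,2,5,4,7,6,9,8,10],
   [1,0,2,3,5,4,7,6,9,8,10], [1,0,3,2,4,5,7,6,9,8,10], [2,3,0,1,6,7,4,5,8,9,10],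
   [4,5,6,7,0,1,2,3,8,9,10], [2,3,0,1,5,4,6,7,9,8,10], [1,0,2,3,4,5,6,7,9,8,10],
   [0,1,3,2,4,5,6,7,9,8,10], [0,1,2,3,5,4,6,7,9,8,10], [3,2,1,0,7,6,5,4,8,9,10],
   [5,4,7,6,1,0,3,2,8,9,10], [3,2,1,0,4,5,7,6,9,8,10], [1,0,3,2,4,5,6,7,8,9,10],
   [1,0,2,3,5,4,6,7,8,9,10], [2,3,1,0,7,6,5,4,9,8,10], [4,5,7,6,1,0,3,2,9,8,10],
   [2,3,1,0,4,5,7,6,8,9,10], [0,1,3,2,5,4,6,7,8,9,10], [3,2,0,1,7,6,5,4,9,8,10],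
   [5,4,6,7,1,0,3,2,9,8,10], [3,2,0,1,4,5,7,6,8,9,10], [3,2,1,0,6,7,5,4,9,8,10],
   [5,4,7,6,0,1,3,2,9,8,10], [3,2,1,0,5,4,7,6,8,9,10], [3,2,1,0,7,6,4,5,9,8,10],
   [6,7,4,5,2,3,0,1,8,9,10], [0,1,2,3,6,7,5,4,9,8,10], [5,4,7,6,1,0,2,3,9,8,10],
   [5,4,6,7,2,3,0,1,9,8,10], [0,1,2,3,7,6,4,5,9,8,10], [6,7,4,5,1,0,2,3,9,8,10],
   [0,1,2,3,5,4,7,6,8,9,10], [0,1,3,2,4,5,7,6,8,9,10], [3,2,0,1,6,7,4,5,9,8,10],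
   [5,4,6,7,0,1,2,3,9,8,10], [3,2,0,1,5,4,6,7,8,9,10], [1,0,2,3,4,5,7,6,8,9,10],
   [2,3,1,0,6,7,4,5,9,8,10], [4,5,7,6,0,1,2,3,9,8,10], [2,3,1,0,5,4,6,7,8,9,10],
   [2,3,0,1,7,6,4,5,9,8,10], [4,5,6,7,1,0,2,3,9,8,10], [2,3,0,1,4,5,6,7,8,9,10],
   [2,3,0,1,6,7,5,4,9,8,10], [7,6,5,4,3,2,1,0,8,9,10], [1,0,3,2,7,6,4,5,9,8,10],
   [4,5,6,7,0,1,3,2,9,8,10], [4,5,7,6,3,2,1,0,9,8,10], [1,0,3,2,6,7,5,4,9,8,10],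
   [7,6,5,4,0,1,3,2,9,8,10], [0,1,2,3,4,5,7,6,9,8,10], [3,2,1,0,6,7,4,5,8,9,10],
   [5,4,7,6,0,1,2,3,8,9,10], [3,2,1,0,5,4,6,7,9,8,10], [3,2,0,1,7,6,4,5,8,9,10],
   [5,4,6,7,1,0,2,3,8,9,10], [3,2,0,1,4,5,6,7,9,8,10], [3,2,0,1,6,7,5,4,8,9,10],
   [6,7,5,4,3,2,1,0,9,8,10], [0,1,3,2,7,6,4,5,8,9,10], [5,4,6,7,0,1,3,2,8,9,10],
   [5,4,7,6,3,2,1,0,8,9,10], [0,1,3,2,6,7,5,4,8,9,10], [6,7,5,4,0,1,3,2,8,9,10],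
   [2,3,1,0,7,6,4,5,8,9,10], [4,5,7,6,1,0,2,3,8,9,10], [2,3,1,0,4,5,6,7,9,8,10],
   [2,3,1,0,6,7,5,4,8,9,10], [7,6,4,5,3,2,1,0,9,8,10], [1,0,2,3,7,6,4,5,8,9,10],
   [4,5,7,6,0,1,3,2,8,9,10], [4,5,6,7,3,2,1,0,8,9,10], [1,0,2,3,6,7,5,4,8,9,10],
   [7,6,4,5,0,1,3,2,8,9,10], [2,3,0,1,7,6,5,4,8,9,10], [7,6,5,4,2,3,1,0,9,8,10],
   [1,0,3,2,6,7,4,5,8,9,10], [4,5,6,7,1,0,3,2,8,9,10], [4,5,7,6,2,3,1,0,8,9,10],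
   [1,0,3,2,7,6,5,4,8,9,10], [7,6,5,4,1,0,3,2,8,9,10], [1,0,3,2,5,4,6,7,9,8,10],
   [7,6,5,4,3,2,0,1,9,8,10], [6,7,5,4,0,1,2,3,9,8,10], [2,3,0,1,4,5,7,6,9,8,10],
   [4,5,6,7,2,3,1,0,9,8,10], [4,5,7,6,3,2,0,1,8,9,10], [7,6,4,5,0,1,2,3,9,8,10],
   [1,0,2,3,6,7,4,5,9,8,10], [4,5,6,7,3,2,0,1,9,8,10], [7,6,5,4,0,1,2,3,8,9,10],
   [6,7,5,4,3,2,0,1,8,9,10], [2,3,1,0,5,4,7,6,9,8,10], [7,6,4,5,2,3,0,1,9,8,10],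
   [4,5,6,7,2,3,0,1,8,9,10], [7,6,4,5,1,0,2,3,8,9,10], [3,2,0,1,5,4,7,6,9,8,10],
   [6,7,5,4,2,3,0,1,9,8,10], [5,4,7,6,2,3,0,1,8,9,10], [6,7,5,4,1,0,2,3,8,9,10],
   [6,7,4,5,3,2,0,1,9,8,10], [0,1,2,3,7,6,5,4,8,9,10], [5,4,6,7,3,2,0,1,8,9,10],
   [0,1,2,3,6,7,4,5,8,9,10], [6,7,4,5,0,1,2,3,8,9,10], [6,7,4,5,2,3,1,0,9,8,10],
   [7,6,4,5,1,0,3,2,9,8,10], [5,4,7,6,3,2,0,1,9,8,10], [5,4,6,7,2,3,1,0,8,9,10],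
   [6,7,5,4,1,0,3,2,9,8,10], [0,1,3,2,7,6,5,4,9,8,10], [5,4,7,6,2,3,1,0,9,8,10],
   [6,7,4,5,1,0,3,2,8,9,10], [7,6,4,5,2,3,1,0,8,9,10], [2,3,0,1,5,4,7,6,8,9,10],
   [7,6,5,4,2,3,0,1,8,9,10], [4,5,7,6,2,3,0,1,9,8,10], [7,6,5,4,1,0,2,3,9,8,10],
   [7,6,4,5,3,2,0,1,8,9,10], [1,0,2,3,7,6,5,4,9,8,10], [0,1,3,2,6,7,4,5,9,8,10],
   [6,7,5,4,2,3,1,0,8,9,10], [6,7,4,5,3,2,1,0,8,9,10], [3,2,1,0,4,5,6,7,8,9,10],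
   [5,4,6,7,3,2,1,0,9,8,10], [6,7,4,5,0,1,3,2,9,8,10]]

/-- how each element arises from an earlier one: its place and the generator -/
def wPar : List (Nat × Nat) :=
  [(0,0), (0,0), (0,1), (0,2), (0,3), (0,4), (0,5), (0,6), (1,1), (1,2), (1,3), (1,4),
   (1,5), (1,6), (2,2), (2,3), (2,4), (2,5), (2,6), (3,3), (3,4), (3,5), (3,6), (4,4),
   (4,5), (4,6), (5,3), (5,5), (5,6), (6,2), (6,6), (7,4), (7,5), (8,2), (8,3), (8,4),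
   (8,5), (8,6), (9,3), (9,4), (9,5), (9,6), (10,4), (10,5), (10,6), (11,3), (11,5), (11,6),
   (12,2), (12,6), (13,4), (13,5), (14,3), (14,4), (14,5), (14,6), (15,4), (15,5), (15,6), (16,3),
   (16,5), (16,6), (17,2), (17,6), (18,4), (18,5), (19,4), (19,5), (19,6), (20,3), (20,5), (20,6),
   (21,2), (21,6), (22,4), (22,5), (23,3), (23,5), (23,6), (24,2), (24,6), (25,4), (25,5), (26,4),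
   (26,5), (27,6), (28,4), (28,5), (29,6), (30,4), (30,5), (31,5), (32,2), (32,6), (34,6), (35,5),
   (36,6), (37,5), (38,6), (39,5), (40,6), (41,5), (42,5), (42,6), (43,6), (44,4), (44,5), (45,5),
   (46,6), (47,5), (48,6), (49,4), (49,5), (50,5), (51,2), (51,6), (52,6), (53,5), (54,6), (55,5),
   (56,5), (56,6), (68,4), (69,5), (76,5), (78,4), (79,6), (82,2)]

end CfsgLib.Fusion.LyTwo
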