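import Cfsg.Agent.Lib.Fusion.LyTwo.AltEleven
import Cfsg.Agent.Lib.Fusion.SmallSimple
import Cfsg.Agent.Lib.PGroups.Basic
import Cfsg.Prelude.Def_SporadicB
import Mathlib.GroupTheory.Sylow

/-!
# The 2-fusion system of a group with an involution centraliser 2.A11 (owner: helper21)

Lifts of involutions moving four points square to the central involution `t`, those of involutions moving eight
points to 1.  If `t` has another conjugate in its centraliser, all the latter lifts are conjugate to `t`, and they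
generate a Sylow 2-subgroup; its centre is `⟨t⟩` and it is its own normaliser.
-/

set_option autoImplicit false

namespace CfsgLib.Fusion.LyTwo

open Cfsg Equiv

/-- The data. -/
structure Cover {C : Type*} [Group C] (π : C →* A11) (t : C) : Prop where
  /-- the kernel -/
  ker : ∀ x, π x = 1 ↔ x = 1 ∨ x = t
  /-- the map is onto -/
  surj : Function.Surjective π
  /-- central -/
  central : ∀ x, t * x = x * t
  /-- an involution -/
  sq : t * t = 1

section Lifts

variable {C : Type*} [Group C] {π : C →* A11} {t : C}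

theorem Cover.map_t (h : Cover π t) : π t = 1 := (h.ker t).2 (Or.inr rfl)

theorem Cover.same (h : Cover π t) {x y : C} (e : π x = π y) : x = y ∨ x = t * y := by
  rcases (h.ker (x * y⁻¹)).1 (by rw [map_mul, map_inv, e, mul_inv_cancel]) with he | he
  · exact Or.inl (mul_inv_eq_one.1 he)
  · exact Or.inr (mul_inv_eq_iff_eq_mul.1 he)

/-- The permutation below an element. -/
def pr (π : C →* A11) (x : C) : Perm (Fin 11) := (π x).1

theorem pr_mul (x y : C) : pr π (x * y) = pr π x * pr π y := by simp [pr]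

theorem Cover.square_eq (h : Cover π t) {r : Perm (Fin 11)} (hr : r * swap 0 1 = swap 0 1 * r)
    (h2 : r * r = 1) {x y : C} (hx : (pr π x).cycleType = r.cycleType) (hy : pr π y = r) : x * x = y * y := by
  obtain ⟨c, hc⟩ := exists_conj hr (σ := π x) hx
  obtain ⟨d, rfl⟩ := h.surj c
  have e : π x = π (d * y * d⁻¹) := Subtype.ext (by
    rw [map_mul, map_mul, map_inv]
    show (π x).1 = (π d).1 * pr π y * (π d).1⁻¹
    rw [hy, hc])
  have hyy : d * (y * y) * d⁻¹ = y * y := by
    rcases (h.ker (y * y)).1 (Subtype.ext (by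
      show pr π (y * y) = 1
      rw [pr_mul, hy, h2])) with e' | e'
    · rw [e', mul_one, mul_inv_cancel]
    · rw [e', ← h.central, mul_inv_cancel_right]
  rcases h.same e with rfl | rfl
  · rw [← hyy]; group
  · calc t * (d * y * d⁻¹) * (t * (d * y * d⁻¹)) = t * (d * y * d⁻¹ * t) * (d * y * d⁻¹) := by group
      _ = t * (t * (d * y * d⁻¹)) * (d * y * d⁻¹) := by rw [h.central (d * y * d⁻¹)]
      _ = t * t * (d * (y * y) * d⁻¹) := by group
      _ = y * y := by rw [h.sq, one_mul, hyy]

theorem doubles_ok :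
    ([swap 0 1 * swap 2 3, swap 0 1 * swap 4 5, swap 0 1 * swap 6 7, swap 0 1 * swap 8 9,
      (swap 0 1 * swap 2 3) * (swap 0 1 * swap 4 5), (swap 0 1 * swap 2 3) * (swap 0 1 * swap 6 7),
      (swap 0 1 * swap 8 9) * (swap 0 1 * swap 2 3), (swap 0 1 * swap 8 9) * (swap 0 1 * swap 4 5),
      (swap 0 1 * swap 8 9) * (swap 0 1 * swap 6 7)] : List (Perm (Fin 11))).all
      (fun σ => decide (σ.cycleType = Multiset.replicate 2 2)) = true := by decide +kernel

theorem perm_facts : pPerm = (swap 0 1 * swap 2 3) * ((swap 0 1 * swap 4 5) * (swap 0 1 * swap 6 7)) ∧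
    dPerm * dPerm = 1 ∧ pPerm * pPerm = 1 ∧ swap 0 1 * swap 8 9 = pPerm * wGen 1 := by decide +kernel

theorem Cover.exists_lift (h : Cover π t) (σ : Perm (Fin 11)) (hσ : Perm.sign σ = 1) : ∃ x, pr π x = σ := by
  obtain ⟨x, hx⟩ := h.surj ⟨σ, hσ⟩
  exact ⟨x, congrArg Subtype.val hx⟩

/-- With some element squaring to `t`: the squares of all lifts and the commutator of two of them. -/
theorem Cover.lifts (h : Cover π t) (ht : t ≠ 1) {x0 : C} (hx0 : x0 * x0 = t) :
    (∀ x, (pr π x).cycleType = Multiset.replicate 2 2 → x * x = t) ∧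
    (∀ x, (pr π x).cycleType = Multiset.replicate 4 2 → x * x = 1) ∧
    ∃ z g, pr π z = pPerm ∧ pr π g = swap 0 1 * swap 8 9 ∧ g * z = t * (z * g) := by
  obtain ⟨d, hd⟩ := h.exists_lift dPerm dPerm_sign
  have hd2 : ∀ x, (pr π x).cycleType = Multiset.replicate 2 2 → x * x = d * d := fun x hx =>
    h.square_eq swap_commutes.1 perm_facts.2.1 (hx.trans types.1.symm) hd
  set ε := d * d with hε
  have hεc : ∀ x, ε * x = x * ε := by
    intro x
    rcases (h.ker ε).1 (Subtype.ext (by
      show pr π ε = 1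
      rw [hε, pr_mul, hd, perm_facts.2.1])) with e | e
    · rw [e, one_mul, mul_one]
    · rw [e, h.central]
  have hε2 : ε * ε = 1 := by
    rcases (h.ker ε).1 (Subtype.ext (by
      show pr π ε = 1
      rw [hε, pr_mul, hd, perm_facts.2.1])) with e | e
    · rw [e, one_mul]
    · rw [e, h.sq]
  have hdoub := List.all_eq_true.1 doubles_ok
  have anti : ∀ a b, (pr π a).cycleType = Multiset.replicate 2 2 → (pr π b).cycleType = Multiset.replicate 2 2 →
      (pr π a * pr π b).cycleType = Multiset.replicate 2 2 → a * b = ε * (b * a) := by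
    intro a b ha hb hab
    have h1 := hd2 a ha
    have h2 := hd2 b hb
    have h3 := hd2 (a * b) (by rw [pr_mul]; exact hab)
    calc a * b = a * b * (a * b) * ((b⁻¹ * a⁻¹)) := by group
      _ = ε * ((b * b)⁻¹ * b * ((a * a)⁻¹ * a)) := by rw [h3]; group
      _ = ε * (ε⁻¹ * b * (ε⁻¹ * a)) := by rw [h1, h2]
      _ = ε * (ε * b * (ε * a)) := by rw [inv_eq_of_mul_eq_one_right hε2]
      _ = ε * (ε * (b * ε) * a) := by group
      _ = ε * (ε * (ε * b) * a) := by rw [hεc b]
      _ = ε * (b * a) := by rw [← mul_assoc ε ε b, hε2, one_mul]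
  obtain ⟨a, ha⟩ := h.exists_lift (swap 0 1 * swap 2 3) (by decide +kernel)
  obtain ⟨b1, hb1⟩ := h.exists_lift (swap 0 1 * swap 4 5) (by decide +kernel)
  obtain ⟨b2, hb2⟩ := h.exists_lift (swap 0 1 * swap 6 7) (by decide +kernel)
  obtain ⟨g, hg⟩ := h.exists_lift (swap 0 1 * swap 8 9) (by decide +kernel)
  have dd : ∀ {x σ}, pr π x = σ → σ.cycleType = Multiset.replicate 2 2 → (pr π x).cycleType = Multiset.replicate 2 2 :=
    fun e h' => e.symm ▸ h'
  have ta : (pr π a).cycleType = Multiset.replicate 2 2 :=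
    dd ha (of_decide_eq_true (hdoub _ (by simp)))
  have tb1 : (pr π b1).cycleType = Multiset.replicate 2 2 :=
    dd hb1 (of_decide_eq_true (hdoub _ (by simp)))
  have tb2 : (pr π b2).cycleType = Multiset.replicate 2 2 :=
    dd hb2 (of_decide_eq_true (hdoub _ (by simp)))
  have tg : (pr π g).cycleType = Multiset.replicate 2 2 :=
    dd hg (of_decide_eq_true (hdoub _ (by simp)))
  have c1 := anti a b1 ta tb1 (by rw [ha, hb1]; exact of_decide_eq_true (hdoub _ (by simp)))
  have c2 := anti a b2 ta tb2 (by rw [ha, hb2]; exact of_decide_eq_true (hdoub _ (by simp)))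
  have g0 := anti g a tg ta (by rw [hg, ha]; exact of_decide_eq_true (hdoub _ (by simp)))
  have g1 := anti g b1 tg tb1 (by rw [hg, hb1]; exact of_decide_eq_true (hdoub _ (by simp)))
  have g2 := anti g b2 tg tb2 (by rw [hg, hb2]; exact of_decide_eq_true (hdoub _ (by simp)))
  have two : ∀ x y1 y2, x * y1 = ε * (y1 * x) → x * y2 = ε * (y2 * x) → x * (y1 * y2) = y1 * y2 * x := by
    intro x y1 y2 e1 e2
    calc x * (y1 * y2) = x * y1 * y2 := by group
      _ = ε * y1 * (x * y2) := by rw [e1]; group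
      _ = ε * (y1 * ε) * (y2 * x) := by rw [e2]; group
      _ = ε * ε * y1 * (y2 * x) := by rw [← hεc y1]; group
      _ = y1 * y2 * x := by rw [hε2]; group
  have cab := two a b1 b2 c1 c2
  have cgb := two g b1 b2 g1 g2
  have hb : (b1 * b2) * (b1 * b2) = ε := hd2 _ (by
    rw [pr_mul, hb1, hb2, show (swap 0 1 * swap 4 5 : Perm (Fin 11)) * (swap 0 1 * swap 6 7) =
      swap 4 5 * swap 6 7 by decide +kernel]
    decide +kernel)
  have hz : pr π (a * (b1 * b2)) = pPerm := by rw [pr_mul, pr_mul, ha, hb1, hb2, perm_facts.1]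
  have hz2 : a * (b1 * b2) * (a * (b1 * b2)) = 1 := by
    calc a * (b1 * b2) * (a * (b1 * b2)) = a * (b1 * b2 * a) * (b1 * b2) := by group
      _ = a * a * ((b1 * b2) * (b1 * b2)) := by rw [← cab]; group
      _ = 1 := by rw [hd2 a ta, hb, hε2]
  have hfour : ∀ x, (pr π x).cycleType = Multiset.replicate 4 2 → x * x = 1 := fun x hx =>
    (h.square_eq swap_commutes.2 perm_facts.2.2.1 (hx.trans types.2.1.symm) hz).trans hz2
  have hεt : ε = t := by
    have hne : π x0 ≠ 1 := fun e => by
      rcases (h.ker x0).1 e with rfl | rfl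
      · exact ht (by rw [← hx0, one_mul])
      · exact ht (by rw [← hx0, h.sq])
    rcases cycleType_involution (π x0) (by rw [← map_mul, hx0, h.map_t]) hne with e | e
    · exact (hd2 x0 e).symm.trans hx0
    · exact absurd (hx0.symm.trans (hfour x0 e)) ht
  refine ⟨fun x hx => (hd2 x hx).trans hεt, hfour, a * (b1 * b2), g, hz, hg, ?_⟩
  calc g * (a * (b1 * b2)) = g * a * (b1 * b2) := by group
    _ = ε * a * (g * (b1 * b2)) := by rw [g0]; group
    _ = ε * a * (b1 * b2 * g) := by rw [cgb]
    _ = t * (a * (b1 * b2) * g) := by rw [hεt]; group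

end Lifts

/-- The fusion system is simple. -/
theorem isSimple_of_two_alt {G : Type*} [Group G] [Finite G] {t : G}
    (hC : IsNonsplitDoubleCover (Subgroup.centralizer ({t} : Set G)) (alternatingGroup (Fin 11)))
    (ht : t * t = 1) (ht1 : t ≠ 1) (hroot : ∃ x, x * t = t * x ∧ x * x = t)
    (hother : ∃ g, g * t * g⁻¹ ≠ t ∧ t * (g * t * g⁻¹) = g * t * g⁻¹ * t)
    {m : ℕ} (hcard : Nat.card G = 256 * m) (hm : Odd m) (S : Sylow 2 G) :
    (groupFusionSystem (S : Subgroup G)).IsSimple 2 := by
  classical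
  have : Fact (Nat.Prime 2) := ⟨Nat.prime_two⟩
  obtain ⟨hcen, ⟨q⟩, -⟩ := hC
  let C := Subgroup.centralizer ({t} : Set G)
  have memC : ∀ {x : G}, x ∈ C ↔ t * x = x * t := by
    intro x
    simp [C, Subgroup.mem_centralizer_iff]
  let tC : C := ⟨t, memC.2 rfl⟩
  have htC : tC ∈ Subgroup.center C := Subgroup.mem_center_iff.2 fun x => Subtype.ext (memC.1 x.2).symm
  have hcenter : ∀ x, x ∈ Subgroup.center C ↔ x = 1 ∨ x = tC := by
    obtain ⟨a, b, hab, hcov⟩ := Nat.card_eq_two_iff.1 hcen
    intro x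
    constructor
    · intro hx
      have h1 : (1 : Subgroup.center C) = a ∨ (1 : Subgroup.center C) = b := by
        have := hcov.symm ▸ Set.mem_univ (1 : Subgroup.center C)
        simpa using this
      have h2 : (⟨tC, htC⟩ : Subgroup.center C) = a ∨ (⟨tC, htC⟩ : Subgroup.center C) = b := by
        have := hcov.symm ▸ Set.mem_univ (⟨tC, htC⟩ : Subgroup.center C)
        simpa using this
      have h3 : (⟨x, hx⟩ : Subgroup.center C) = a ∨ (⟨x, hx⟩ : Subgroup.center C) = b := by
        have := hcov.symm ▸ Set.mem_univ (⟨x, hx⟩ : Subgroup.center C)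
        simpa using this
      have hne : (⟨tC, htC⟩ : Subgroup.center C) ≠ 1 := fun e =>
        ht1 (congrArg (fun y : Subgroup.center C => ((y : C) : G)) e)
      rcases h1 with h1 | h1 <;> rcases h2 with h2 | h2 <;> rcases h3 with h3 | h3
      all_goals first
        | exact absurd (h2.trans h1.symm) hne
        | exact Or.inl (congrArg Subtype.val (h3.trans h1.symm))
        | exact Or.inr (congrArg Subtype.val (h3.trans h2.symm))
    · rintro (rfl | rfl)
      · exact one_mem _
      · exact htC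
  let π : C →* A11 := q.toMonoidHom.comp (QuotientGroup.mk' (Subgroup.center C))
  have hπ : Cover π tC := by
    refine ⟨fun x => ?_, q.surjective.comp (QuotientGroup.mk'_surjective _), fun x => ?_, Subtype.ext ht⟩
    · rw [← hcenter, ← QuotientGroup.eq_one_iff]
      exact q.map_eq_one_iff
    · exact Subtype.ext (memC.1 x.2)
  have htC1 : tC ≠ 1 := fun e => ht1 (congrArg Subtype.val e)
  obtain ⟨r, hr1, hr2⟩ := hroot
  obtain ⟨-, hfour, z, g, hz, hg, hzg⟩ := hπ.lifts htC1 (x0 := ⟨r, memC.2 hr1.symm⟩) (Subtype.ext hr2)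
  -- the Sylow subgroup
  let H : Subgroup C := WW.comap π
  have hHcard : Nat.card H = 256 := by
    have h1 := Subgroup.card_eq_card_quotient_mul_card_subgroup (Subgroup.center C)
    rw [hcen, Nat.card_congr q.toEquiv] at h1
    have h2 := H.card_mul_index
    have h3 := WW.card_mul_index
    rw [Subgroup.index_comap_of_surjective _ hπ.surj, h1, ← h3, card_WW] at h2
    have h4 : WW.index ≠ 0 := Subgroup.index_ne_zero_of_finite
    exact Nat.eq_of_mul_eq_mul_right (Nat.pos_of_ne_zero h4) (by rw [h2]; ring)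
  let S₁ : Subgroup G := H.map C.subtype
  have hS₁ : Nat.card S₁ = 256 := (Subgroup.card_map_of_injective C.subtype_injective).trans hHcard
  have hP : IsPGroup 2 S₁ := IsPGroup.of_card (n := 8) (by rw [hS₁]; norm_num)
  have hidx : ¬ 2 ∣ S₁.index := by
    have := S₁.card_mul_index
    rw [hS₁, hcard] at this
    rw [Nat.eq_of_mul_eq_mul_left (by norm_num) this]
    exact hm.not_two_dvd_nat
  have hmemS : ∀ {x : C}, (x : G) ∈ S₁ ↔ π x ∈ WW := by
    intro x
    constructor
    · rintro ⟨y, hy, e⟩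
      rwa [← show y = x from Subtype.ext e]
    · exact fun hx => ⟨x, hx, rfl⟩
  have hSC : S₁ ≤ C := by
    rintro _ ⟨y, -, rfl⟩
    exact y.2
  have htS : t ∈ S₁ := (hmemS (x := tC)).2 (by rw [hπ.map_t]; exact one_mem _)
  -- the centre
  have hgW : π g ∈ WW := by
    have e : π g = ⟨wGen 0, wGen_sign 0⟩ * ⟨wGen 1, wGen_sign 1⟩ := Subtype.ext (hg.trans perm_facts.2.2.2)
    rw [e]
    exact mul_mem (wGen_mem 0) (wGen_mem 1)
  have hZ : ∀ x ∈ S₁, (∀ y ∈ S₁, x * y = y * x) → x = 1 ∨ x = t := by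
    rintro _ ⟨x, hx, rfl⟩ hc
    rcases central_WW hx (fun v hv => by
      obtain ⟨y, rfl⟩ := hπ.surj v
      rw [← map_mul, ← map_mul]
      exact congrArg π (Subtype.ext (hc _ (hmemS.2 hv)))) with e | e
    · rcases (hπ.ker x).1 e with rfl | rfl
      · exact Or.inl rfl
      · exact Or.inr rfl
    · exfalso
      have hxg : g * x = x * g := Subtype.ext (hc _ (hmemS.2 hgW)).symm
      have hzg' : g * z = z * g := by
        rcases hπ.same (x := x) (y := z) (Subtype.ext (e.trans hz.symm)) with rfl | rfl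
        · exact hxg
        · have e1 : tC * (g * z) = tC * (z * g) := by
            calc tC * (g * z) = g * (tC * z) := by rw [← mul_assoc, hπ.central g, mul_assoc]
              _ = _ := by rw [hxg, mul_assoc]
          exact mul_left_cancel e1
      rw [hzg] at hzg'
      exact htC1 (mul_eq_right.1 hzg')
  refine groupFusion_isSimple_of_data_conj (hP.toSylow hidx) S (fun e => ?_) (fun T hT hne hcl => ?_) fun n hn => ?_
  · have : S₁ = ⊥ := e
    rw [this] at htS
    exact ht1 (Subgroup.mem_bot.1 htS)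
  · change T ≤ S₁ at hT
    show T = S₁
    change ∀ x ∈ T, ∀ c : G, c * x * c⁻¹ ∈ S₁ → c * x * c⁻¹ ∈ T at hcl
    have hN : (T.subgroupOf S₁).Normal := ⟨fun x hx c => by
      rw [Subgroup.mem_subgroupOf] at hx ⊢
      exact hcl x hx c (mul_mem (mul_mem c.2 x.2) (inv_mem c.2))⟩
    have htT : t ∈ T := by
      have h := CfsgLib.PGroups.inf_center_ne_bot hP (N := T.subgroupOf S₁) (fun e => hne (by
        rw [Subgroup.subgroupOf_eq_bot, disjoint_iff, inf_eq_left.2 hT] at e
        exact e))
      obtain ⟨x, hx, hx1⟩ := (Subgroup.ne_bot_iff_exists_ne_one).1 h |>.elim fun y hy =>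
        (⟨y.1, y.2, fun e => hy (Subtype.ext e)⟩ : ∃ x : S₁, x ∈ T.subgroupOf S₁ ⊓ Subgroup.center S₁ ∧ x ≠ 1)
      obtain ⟨hxT, hxc⟩ := hx
      rcases hZ x x.2 (fun y hy => (congrArg Subtype.val (Subgroup.mem_center_iff.1 hxc ⟨y, hy⟩)).symm) with e | e
      · exact absurd (Subtype.ext e) hx1
      · exact e ▸ hxT
    obtain ⟨g₀, hg1, hg2⟩ := hother
    let u : C := ⟨g₀ * t * g₀⁻¹, memC.2 hg2⟩
    have hu2 : u * u = 1 := Subtype.ext (by
      show g₀ * t * g₀⁻¹ * (g₀ * t * g₀⁻¹) = 1
      calc _ = g₀ * (t * t) * g₀⁻¹ := by group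
        _ = 1 := by rw [ht]; group)
    have hu4 : (π u).1.cycleType = Multiset.replicate 4 2 := by
      have hne' : π u ≠ 1 := fun e => by
        rcases (hπ.ker u).1 e with e | e
        · apply ht1
          have e' : g₀ * t * g₀⁻¹ = 1 := congrArg Subtype.val e
          rw [mul_inv_eq_one] at e'
          exact mul_left_cancel (e'.trans (mul_one g₀).symm)
        · exact hg1 (congrArg Subtype.val e)
      refine (cycleType_involution (π u) (by rw [← map_mul, hu2, map_one]) hne').resolve_left fun e => htC1 ?_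
      exact ((hπ.lifts htC1 (x0 := ⟨r, memC.2 hr1.symm⟩) (Subtype.ext hr2)).1 u e).symm.trans hu2
    have hconj : ∀ x : C, π x ∈ WW → (π x).1.cycleType = Multiset.replicate 4 2 → ∃ c : G, (x : G) = c * t * c⁻¹ := by
      intro x _ hx
      obtain ⟨c1, e1⟩ := exists_conj swap_commutes.2 (σ := π u) (hu4.trans types.2.1.symm)
      obtain ⟨c2, e2⟩ := exists_conj swap_commutes.2 (σ := π x) (hx.trans types.2.1.symm)
      obtain ⟨c, hc⟩ := hπ.surj (c2 * c1⁻¹)
      have e : π x = π (c * u * c⁻¹) := Subtype.ext (by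
        rw [map_mul, map_mul, map_inv, hc]
        show (π x).1 = c2.1 * c1.1⁻¹ * (π u).1 * (c2.1 * c1.1⁻¹)⁻¹
        rw [e1, e2]
        group)
      -- both lifts are conjugate, as the two lifts of the model are
      obtain ⟨c1', hc1'⟩ := hπ.surj c1
      have huz : π u = π (c1' * z * c1'⁻¹) := Subtype.ext (by
        rw [map_mul, map_mul, map_inv, hc1']
        show (π u).1 = c1.1 * pr π z * c1.1⁻¹
        rw [hz, e1])
      have hflip : ∃ f : C, tC * u = f * u * f⁻¹ := by
        refine ⟨c1' * g * c1'⁻¹, ?_⟩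
        have key : g * z * g⁻¹ = tC * z := by rw [hzg]; group
        set f := c1' * g * c1'⁻¹
        set w := c1' * z * c1'⁻¹
        have hw : f * w * f⁻¹ = tC * w := by
          calc f * w * f⁻¹ = c1' * (g * z * g⁻¹) * c1'⁻¹ := by simp only [f, w]; group
            _ = c1' * tC * z * c1'⁻¹ := by rw [key]; group
            _ = _ := by rw [← hπ.central c1']; simp only [w]; group
        rcases hπ.same huz with e' | e'
        · rw [e', hw]
        · rw [e']
          calc tC * (tC * w) = tC * (f * w * f⁻¹) := by rw [hw]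
            _ = _ := by rw [← mul_assoc f tC, ← hπ.central f]; group
      rcases hπ.same e with e' | e'
      · exact ⟨c * g₀, by
          rw [show (x : G) = c * (g₀ * t * g₀⁻¹) * (c : G)⁻¹ from congrArg Subtype.val e']; group⟩
      · obtain ⟨f, hf⟩ := hflip
        have e'' : x = c * f * u * (c * f)⁻¹ := by
          rw [e']
          calc tC * (c * u * c⁻¹) = c * (tC * u) * c⁻¹ := by rw [← mul_assoc c tC, ← hπ.central c]; group
            _ = _ := by rw [hf]; group
        exact ⟨c * f * g₀, by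
          rw [show (x : G) = c * f * (g₀ * t * g₀⁻¹) * ((c : G) * f)⁻¹ from congrArg Subtype.val e'']; group⟩
    refine le_antisymm hT ?_
    rintro _ ⟨x, hx, rfl⟩
    have hle : WW ≤ (T.subgroupOf C).map π := by
      rw [WW, Subgroup.closure_le]
      rintro _ ⟨k, rfl⟩
      obtain ⟨y, hy⟩ := hπ.surj ⟨wGen k, wGen_sign k⟩
      have hyW : π y ∈ WW := hy ▸ wGen_mem k
      obtain ⟨c, hc⟩ := hconj y hyW (by rw [hy]; exact types.2.2 k)
      refine ⟨y, ?_, hy⟩
      show (y : G) ∈ T
      rw [hc]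
      exact hcl t htT c (hc ▸ hmemS.2 hyW)
    obtain ⟨y, hy, hy'⟩ := hle hx
    rcases hπ.same hy'.symm with rfl | rfl
    · exact hy
    · exact mul_mem htT hy
  · change n ∈ Subgroup.normalizer (S₁ : Set G) at hn
    refine ⟨8, fun x _ => ?_⟩
    have hnS := Subgroup.mem_normalizer_iff.1 hn
    have hnC : n ∈ C := by
      rw [memC]
      rcases hZ (n * t * n⁻¹) ((hnS t).1 htS) (fun y hy => by
        have hy' : n⁻¹ * y * n ∈ S₁ := (hnS _).2 (by simpa [mul_assoc] using hy)
        calc n * t * n⁻¹ * y = n * (t * (n⁻¹ * y * n)) * n⁻¹ := by group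
          _ = n * (n⁻¹ * y * n * t) * n⁻¹ := by rw [memC.1 (hSC hy')]
          _ = y * (n * t * n⁻¹) := by group) with e | e
      · rw [mul_inv_eq_one] at e
        exact absurd (mul_left_cancel (e.trans (mul_one n).symm)) ht1
      · exact (mul_inv_eq_iff_eq_mul.1 e).symm
    have hnW : π ⟨n, hnC⟩ ∈ WW := normalizer_WW fun w hw => by
      obtain ⟨y, rfl⟩ := hπ.surj w
      rw [← map_inv, ← map_mul, ← map_mul]
      exact hmemS.1 ((hnS _).1 (hmemS.2 hw))
    have hn1 : n ^ 2 ^ 8 = 1 := by
      have h := pow_card_eq_one' (G := S₁) (x := ⟨n, (hmemS (x := ⟨n, hnC⟩)).2 hnW⟩)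
      rw [hS₁] at h
      simpa using congrArg Subtype.val h
    rw [hn1, one_mul, mul_one]

end CfsgLib.Fusion.LyTwo
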