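import Cfsg.Agent.Lib.Fusion.LyTwo.DoubleCover
import Cfsg.Agent.Lib.Sporadic.LyInv.Alt
import Cfsg.Agent.Lib.Sporadic.LyOut.Line
import Cfsg.Prelude.Def_Spor_Ly

/-!
# The 2-fusion system of the Lyons group is simple (owner: helper21)
-/

set_option autoImplicit false
set_option maxRecDepth 20000

namespace CfsgLib.Fusion.LyTwo

open Cfsg
open CfsgLib.Sporadic.LyGTwo (toLy toLy_injective evalAd)
open CfsgLib.Sporadic.LyOut (wd wd_eq wd_append wd_winv el4 toLy_el4 enc_el4)
open CfsgLib.Sporadic.LyInv (tG CG isNonsplit_CG isNonsplit_of_equiv tG_mul_self tG_ne)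

/-- An element moving the involution to another one commuting with it. -/
def gWord : List ℕ := [4, 2, 4, 6, 0, 4, 6, 0, 4]

/-- The other involution. -/
noncomputable def uWord : List ℕ := gWord ++ [0, 0, 0, 0] ++ CfsgLib.Sporadic.PairEnum.winv gWord

theorem tG_eq : tG = wd [0, 0, 0, 0] := by
  rw [← toLy_el4 (by decide +kernel)]
  rfl

theorem other_ok : (uWord.all (fun k => Nat.blt k 8) &&
    CfsgLib.Sporadic.LyMult.eqA ([0, 0, 0, 0] ++ uWord) (uWord ++ [0, 0, 0, 0]) &&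
    decide (evalAd uWord ≠ evalAd [0, 0, 0, 0])) = true := by decide +kernel

theorem data :
    (∃ x, x * tG = tG * x ∧ x * x = tG) ∧
    ∃ g, g * tG * g⁻¹ ≠ tG ∧ tG * (g * tG * g⁻¹) = g * tG * g⁻¹ * tG := by
  refine ⟨⟨wd [0, 0], ?_, ?_⟩, wd gWord, ?_, ?_⟩
  · rw [tG_eq, ← wd_append, ← wd_append]
    rfl
  · rw [tG_eq, ← wd_append]
    rfl
  all_goals
    have h := other_ok
    simp only [Bool.and_eq_true, decide_eq_true_eq] at h
    obtain ⟨⟨hall, hcomm⟩, hne⟩ := h
    have e : wd gWord * tG * (wd gWord)⁻¹ = wd uWord := by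
      rw [uWord, wd_append, wd_append, wd_winv, tG_eq]
    rw [e, tG_eq]
  · intro hu
    rw [← toLy_el4 hall, ← toLy_el4 (show ([0, 0, 0, 0] : List ℕ).all (fun k => Nat.blt k 8) = true by decide +kernel)] at hu
    apply hne
    rw [← enc_el4 hall, ← enc_el4 (show ([0, 0, 0, 0] : List ℕ).all (fun k => Nat.blt k 8) = true by decide +kernel),
      toLy_injective hu]
  · have := wd_eq hcomm
    rwa [wd_append, wd_append] at this

theorem lyons_isSimple {G : Type*} [Group G] [Finite G] (hG : Cfsg.Spor.IsoLy G) (S : Sylow 2 G) :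
    (groupFusionSystem (S : Subgroup G)).IsSimple 2 := by
  obtain ⟨e⟩ := hG
  obtain ⟨⟨x, hx1, hx2⟩, g, hg1, hg2⟩ := data
  have hC : IsNonsplitDoubleCover (Subgroup.centralizer ({e.symm tG} : Set G)) (alternatingGroup (Fin 11)) := by
    refine isNonsplit_of_equiv ((e.symm.subgroupMap CG).trans (MulEquiv.subgroupCongr ?_)) isNonsplit_CG
    ext y
    obtain ⟨y, rfl⟩ := e.symm.surjective y
    rw [Subgroup.mem_centralizer_singleton_iff, ← map_mul, ← map_mul, e.symm.injective.eq_iff]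
    refine ⟨?_, fun h => ⟨y, CfsgLib.Sporadic.LyInv.mem_CG.2 h.symm, rfl⟩⟩
    rintro ⟨k, hk, h⟩
    rw [← e.symm.injective h]
    exact (CfsgLib.Sporadic.LyInv.mem_CG.1 hk).symm
  refine isSimple_of_two_alt hC ?_ ?_ ⟨e.symm x, ?_, ?_⟩ ⟨e.symm g, ?_, ?_⟩ (m := 202207730484375)
    (by rw [Nat.card_congr e.toEquiv, CfsgLib.Sporadic.LyLower.card_eq]) (by decide) S
  · rw [← map_mul, tG_mul_self, map_one]
  · exact fun h => tG_ne (e.symm.injective (h.trans (map_one e.symm).symm))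
  · rw [← map_mul, ← map_mul, hx1]
  · rw [← map_mul, hx2]
  · exact fun h => hg1 (e.symm.injective (by simpa using h))
  · rw [← map_inv, ← map_mul, ← map_mul, ← map_mul, ← map_mul, hg2]

end CfsgLib.Fusion.LyTwo
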